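import Cfsg.Agent.H287.OC.D4Defs
import Cfsg.Agent.H116.RatB0.StExc
import Cfsg.Agent.ChevalleyStructure.OrderFinal
import Cfsg.Agent.S1035
import Cfsg.Agent.S1082
import Cfsg.Agent.H35.BR.OPlusCyc
import Cfsg.Agent.H314.RatB.OPlus
import Cfsg.Agent.H908.BR.RankOne
import Cfsg.Agent.ChevalleyStructure.CardCombAll

/-!
# S4891, `PΩ₈⁺(q)`, `p ∤ q` (helper287)

* `rowInt_D4_of_dvd` : the row from the Steinberg character if `p` divides `Φ_m(q)`, `m = 2, 4, 6`.
-/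

set_option autoImplicit false
set_option linter.unusedSectionVars false

namespace Cfsg.Agent.H287.OC

open CoxeterSystem Cfsg.Agent.ChevalleyStructure.CoxeterGeom Cfsg.Agent.Tits.Roots Cfsg.Agent.Tits.Core
  Cfsg.Agent.Tits.RootComb Cfsg.Agent.Nodes.Reps Cfsg.Agent.Nodes.BNOf
  Cfsg.Agent.Nodes.StabComb Cfsg.Agent.Nodes.Bruhat Cfsg.Agent.Nodes.LeviDec Cfsg.Agent.H35.Poin
  Cfsg.Agent.H35.PoinNum Cfsg.Agent.H35.ExcIdx Cfsg.Agent.H134.StrP Cfsg.Agent.H116.RatB0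
  Cfsg.Agent.ChevalleyStructure.CoxeterGeomTypes Cfsg.Lie
open Cfsg.Agent.Nodes.RGDChev Cfsg.Agent.ChevalleyStructure.NPerm
open Cfsg.Agent.H145.BR (RowInt)

theorem D4_p012 : PathOK coxeterD4 [0, 1, 2] [0, 1, 2] [] 0 := by
  constructor <;> decide +kernel

theorem D4_p013 : PathOK coxeterD4 [0, 1, 3] [0, 1, 3] [] 0 := by
  constructor <;> decide +kernel

theorem D4_p123 : PathOK coxeterD4 [1, 2, 3] [2, 1, 3] [] 2 := by
  constructor <;> decide +kernel

theorem D4_p3 : PathOK coxeterD4 [3] [3] [] 3 := by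
  constructor <;> decide +kernel

theorem D4_p23 : PathOK coxeterD4 [2, 3] [2] [3] 2 := by
  constructor <;> decide +kernel

theorem D4_p023 : PathOK coxeterD4 [0, 2, 3] [0] [2, 3] 0 := by
  constructor <;> decide +kernel

section

variable {W Y : Type*} [Group W] [Group Y] [Finite W] [Finite Y]
  {cs : CoxeterSystem coxeterD4 W} {r : ℕ} {T : Subgroup Y} {n : Fin 4 → Y}
  {X : (Fin 4 → ℤ) → Subgroup Y} (R : RGD cs (hp4.isCartan) r T n X) {q : ℕ} (hq : 2 ≤ q)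
  (hs : ∀ i, Nat.card (X (sr i)) = q)

include R hq hs

theorem oD4_012 : ParOrd cs (hp4.isCartan) T X q 4 [0, 1, 2] [1, 2, 3, 4] :=
  ParOrd.path (ParOrd.nil R) R hq hs D4_p012 (by decide)

theorem oD4_013 : ParOrd cs (hp4.isCartan) T X q 4 [0, 1, 3] [1, 2, 3, 4] :=
  ParOrd.path (ParOrd.nil R) R hq hs D4_p013 (by decide)

theorem oD4_123 : ParOrd cs (hp4.isCartan) T X q 4 [1, 2, 3] [1, 2, 3, 4] :=
  ParOrd.path (ParOrd.nil R) R hq hs D4_p123 (by decide)

theorem oD4_3 : ParOrd cs (hp4.isCartan) T X q 4 [3] [1, 1, 1, 2] :=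
  ParOrd.path (ParOrd.nil R) R hq hs D4_p3 (by decide)

theorem oD4_23 : ParOrd cs (hp4.isCartan) T X q 4 [2, 3] [1, 1, 2, 2] :=
  ParOrd.path (oD4_3 R hq hs) R hq hs D4_p23 (by decide)

theorem oD4_023 : ParOrd cs (hp4.isCartan) T X q 4 [0, 2, 3] [1, 2, 2, 2] :=
  ParOrd.path (oD4_23 R hq hs) R hq hs D4_p023 (by decide)

end

universe u

variable {K : Type u} [Field K] [Fintype K]

theorem order_D4 : Nat.gcd 2 (Fintype.card K - 1) ^ 2 * Nat.card (chevD4.group K) =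
    Fintype.card K ^ 12 * pr (Fintype.card K) [2, 4, 4, 6] := by
  have h := Cfsg.Agent.ChevalleyStructure.OrderFinal.order_formula (F := K) rfl chevD4
    (Nat.gcd 2 (Fintype.card K - 1) ^ 2) [2, 4, 4, 6] (by simp) (by simp [Cfsg.Agent.ChevalleyStructure.Elts.InList])
    (Cfsg.Agent.ChevalleyStructure.CardComb.comb_D4) (by simp) (by decide)
  exact h

variable {p : ℕ} [Fact p.Prime] (hpK : (p : K) ≠ 0)

include hpK in
theorem rowInt_D4_of_dvd {m : ℕ} (hm : m ∈ [2, 4, 6])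
    (hd : (p : ℤ) ∣ E (Fintype.card K) m) : RowInt p (chevD4.group K) := by
  obtain ⟨r, f, _, hr, hf, hK⟩ := exists_pow K
  have : Fact r.Prime := ⟨hr⟩
  rw [hK] at hd
  have h2 := two_le hr hf
  have hfin := finite_W hp4 coxeterD4.toCoxeterSystem
  have hR := rgd (K := K) hp4 coxeterD4.toCoxeterSystem r
  have hc : ∀ i, Nat.card (XX chevD4 4 K (sr i)) = r ^ f := fun i => by
    rw [card_XX hp4 K coxeterD4.toCoxeterSystem (isRoot_sr _ _ i), Nat.card_eq_fintype_card, hK]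
  have hg : ¬ r ∣ Nat.gcd 2 (r ^ f - 1) ^ 2 := by
    intro h
    have h3 := (hr.dvd_of_dvd_pow h).trans (Nat.gcd_dvd_right _ _)
    have h4 : r ∣ r ^ f := dvd_pow_self r hf
    have h5 := Nat.dvd_sub h4 h3
    rw [Nat.sub_sub_self (Nat.one_le_pow _ _ hr.pos)] at h5
    exact hr.one_lt.ne' (Nat.dvd_one.1 h5)
  have hT : Nat.gcd 2 (r ^ f - 1) ^ 2 * Nat.card (chevD4.diagonalSubgroup K) = (r ^ f - 1) ^ chevD4.rank := by
    rw [← hK]
    exact Cfsg.Agent.S1035.result rfl (chevD4, Nat.gcd 2 (Fintype.card K - 1) ^ 2) (by simp)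
  have hS : ∃ b, Nat.gcd 2 (r ^ f - 1) ^ 2 * Nat.card (chevD4.group K) = r ^ b * pr (r ^ f) [2, 4, 4, 6] := by
    refine ⟨f * 12, ?_⟩
    have h3 := order_D4 (K := K)
    rw [hK] at h3
    rw [pow_mul]
    exact h3
  have hdS : ∀ d ∈ [2, 4, 4, 6], 0 < d ∧ d < 31 := by decide
  refine rowInt_of_index hR (GG_eq_top hp4 K _) (ne_of_cast K hpK) fun k => ?_
  have key : ∀ (J : List (Fin 4)) (dJ : List ℕ), (∀ j, j ∈ J ↔ j ≠ k) →
      ParOrd coxeterD4.toCoxeterSystem hp4.isCartan (TT chevD4 K) (XX chevD4 4 K) (r ^ f) 4 J dJ →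
      (∀ d ∈ dJ, 0 < d ∧ d < 31) → (∀ m < 31, cnt dJ m ≤ cnt [2, 4, 4, 6] m) → cnt dJ m < cnt [2, 4, 4, 6] m →
      p ∣ (PJ coxeterD4.toCoxeterSystem hp4.isCartan (TT chevD4 K) (XX chevD4 4 K) {j | j ≠ k}).index := by
    rintro J dJ e1 ⟨N, hN1, hN2⟩ e3 e4 e5
    have h3 : ({j | j ≠ k} : Set (Fin 4)) = {j | j ∈ J} := by
      ext j
      exact (e1 j).symm
    rw [h3]
    have h4 : (PJ coxeterD4.toCoxeterSystem hp4.isCartan (TT chevD4 K) (XX chevD4 4 K) {j | j ∈ J}).index *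
        pr (r ^ f) dJ = pr (r ^ f) [2, 4, 4, 6] := by
      rw [← hN2, ← mul_assoc]
      exact index_split hp4 K hr hf hK _ hg hT hS (not_dvd_pr hr hf _ fun d hd => (hdS d hd).1) hN1
    refine dvd_idx h2 hdS e3 h4 e4 hd ?_ e5
    have h5 : ∀ m ∈ [2, 4, 6], m < 31 := by decide
    exact h5 m hm
  fin_cases k
  · exact key [1, 2, 3] _ (by decide) (oD4_123 hR h2 hc) (by decide) (by decide) (by clear key hd; revert m; decide)
  · exact key [0, 2, 3] _ (by decide) (oD4_023 hR h2 hc) (by decide) (by decide) (by clear key hd; revert m; decide)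
  · exact key [0, 1, 3] _ (by decide) (oD4_013 hR h2 hc) (by decide) (by decide) (by clear key hd; revert m; decide)
  · exact key [0, 1, 2] _ (by decide) (oD4_012 hR h2 hc) (by decide) (by decide) (by clear key hd; revert m; decide)

/-- **the field `oplus` of S4891 for `m = 4`** -/
theorem rowInt_oplus_four {p : ℕ} [hp : Fact p.Prime] (hp2 : p ≠ 2) {F : Type} [Field F] [Fintype F]
    (hq : (p : F) ≠ 0) (hnc : ∀ P : Sylow p (POmega F (quadFormPlus 4 F)), ¬ IsCyclic P)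
    (hd : p ∣ Nat.card (POmega F (quadFormPlus 4 F))) : RowInt p (POmega F (quadFormPlus 4 F)) := by
  obtain ⟨e⟩ := Cfsg.Agent.S1082.result (F := F)
  have hpq : ¬ p ∣ Fintype.card F := by
    intro h
    obtain ⟨r, f, _, hr, hf, hK⟩ := exists_pow F
    rw [hK] at h
    have h1 := (Nat.prime_dvd_prime_iff_eq hp.out hr).1 (hp.out.dvd_of_dvd_pow h)
    exact ne_of_cast F hq h1
  have hq1 : 1 ≤ Fintype.card F := Fintype.card_pos
  have hE := dvd_E (q := Fintype.card F) (p := p) hpq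
  have hc : p ∣ pr (Fintype.card F) [2, 4, 4, 6] := by
    have h1 : p ∣ Fintype.card F ^ 12 * pr (Fintype.card F) [2, 4, 4, 6] := by
      rw [← order_D4, Nat.card_congr e.toEquiv]
      exact hd.mul_left _
    rcases hp.out.dvd_mul.1 h1 with h2 | h2
    · exact absurd (hp.out.dvd_of_dvd_pow h2) hpq
    · exact h2
  have hcnt := cnt_pos_of_dvd hc hq1
  set d := orderOf ((Fintype.card F : ℕ) : ZMod p) with hdd
  have hd0 : 0 < d := orderOf_pos_iff.2 (isOfFinOrder_iff_pow_eq_one.2 ⟨p - 1, by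
    have := hp.out.two_le; omega, ZMod.pow_card_sub_one_eq_one (fun h1 => hpq ((ZMod.natCast_eq_zero_iff _ p).1 h1))⟩)
  have hd6 : d ≤ 6 := by
    unfold cnt at hcnt
    obtain ⟨a, ha, h2⟩ := List.countP_pos_iff.1 hcnt
    have h3 : a ≤ 6 ∧ 0 < a := by
      have : ∀ a ∈ [2, 4, 4, 6], a ≤ 6 ∧ 0 < a := by decide
      exact this a ha
    have h4 : d ∣ a := by simpa using h2
    exact (Nat.le_of_dvd h3.2 h4).trans h3.1
  have hcases : d = 1 ∨ d = 2 ∨ d = 3 ∨ d = 4 ∨ d = 6 := by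
    rcases (by omega : d = 1 ∨ d = 2 ∨ d = 3 ∨ d = 4 ∨ d = 5 ∨ d = 6) with h | h | h | h | h | h
    · exact Or.inl h
    · exact Or.inr (Or.inl h)
    · exact Or.inr (Or.inr (Or.inl h))
    · exact Or.inr (Or.inr (Or.inr (Or.inl h)))
    · rw [h] at hcnt
      exact absurd hcnt (by decide)
    · exact Or.inr (Or.inr (Or.inr (Or.inr h)))
  have hst : ∀ m ∈ [2, 4, 6], d = m → RowInt p (POmega F (quadFormPlus 4 F)) := by
    intro m hm h
    rw [h] at hE
    exact Cfsg.Agent.H908.BR.rowInt_congr e.symm (rowInt_D4_of_dvd hq hm hE)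
  rcases hcases with h | h | h | h | h
  · refine Cfsg.Agent.H314.RatB.OPlus.rowInt_oplus hp2 le_rfl ?_
    have h1 : ((Fintype.card F : ℕ) : ZMod p) = 1 := orderOf_eq_one_iff.1 (hdd.symm.trans h)
    have h2 : ((Fintype.card F - 1 : ℕ) : ZMod p) = 0 := by
      rw [Nat.cast_sub hq1, h1, Nat.cast_one, sub_self]
    exact (ZMod.natCast_eq_zero_iff _ p).1 h2
  · exact hst 2 (by decide) h
  · exfalso
    obtain ⟨P⟩ : Nonempty (Sylow p (POmega F (quadFormPlus 4 F))) := inferInstance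
    exact hnc P (Cfsg.Agent.H35.BR.cyc_plus le_rfl (hdd.symm.trans h) (by decide) (Or.inr (by decide)) P)
  · exact hst 4 (by decide) h
  · exact hst 6 (by decide) h

theorem rowT_oplus_four {p : ℕ} [hp : Fact p.Prime] (hp2 : p ≠ 2) {F : Type} [Field F] [Fintype F]
    (hq : (p : F) ≠ 0) (hnc : ∀ P : Sylow p (POmega F (quadFormPlus 4 F)), ¬ IsCyclic P)
    (hd : p ∣ Nat.card (POmega F (quadFormPlus 4 F))) : Cfsg.Agent.H145.BR.RowT p (POmega F (quadFormPlus 4 F)) :=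
  (rowInt_oplus_four hp2 hq hnc hd).rowT

end Cfsg.Agent.H287.OC
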