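import Cfsg.Agent.H53.HC.Rgd
import Cfsg.Agent.H932.OC.Mk

/-!
# S4891, own characteristic: Mackey's formula for linear characters of parabolic subgroups (helper287)

`S` with a root group datum `R : RGD cs h p T n X`, `J`, `J'` sets of nodes, `w` reduced with respect to `W_J`, `W_J'`.

* `inf_le_of` : `P_J ∩ g P_J' g⁻¹` is generated by `T` and `p`-elements;
* `ag_iff` : linear characters `ξ`, `ξ'` of `P_J`, `P_J'` (trivial on `p`-elements) agree on `P_J ∩ g P_J' g⁻¹` iff they agree on `T`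
  (for every `g` over any `w`);
* `inner_rgd` : `⟨Ind ξ, Ind ξ'⟩` is the number of double cosets `W_J w W_J'` on which they agree.
-/

set_option autoImplicit false
set_option linter.unusedSectionVars false

open Cfsg

namespace Cfsg.Agent.H287.OC

open CoxeterSystem Cfsg.Agent.ChevalleyStructure.CoxeterGeom Cfsg.Agent.Tits.Roots Cfsg.Agent.Tits.Core
  Cfsg.Agent.Tits.Exchange Cfsg.Agent.Tits.RootComb Cfsg.Agent.Nodes.Reps Cfsg.Agent.Nodes.BNOf Cfsg.Agent.Nodes.StabComb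
  Cfsg.Agent.Nodes.Bruhat Cfsg.Agent.Nodes.OppDec Cfsg.Agent.Nodes.LeviDec Cfsg.Agent.H53.HC Cfsg.Agent.H932.OC

variable {I W Y : Type*} [Fintype I] [DecidableEq I] [Group W] [Group Y] {M : CoxeterMatrix I}
  {cs : CoxeterSystem M W} {A : I → I → ℤ} {h : IsCartan M A} {p : ℕ} {T : Subgroup Y} {n : I → Y}
  {X : (I → ℤ) → Subgroup Y}

/-- `w` is minimal in `W_J w W_J'` -/
def Red (cs : CoxeterSystem M W) (J J' : Set I) (w : W) : Prop := IsMinL cs J w ∧ IsMinR cs J' w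

theorem exists_red (J J' : Set I) (w : W) :
    ∃ v ∈ WJ cs J, ∃ v' ∈ WJ cs J', ∃ u, w = v * u * v' ∧ Red cs J J' u := by
  classical
  have hex : ∃ m : ℕ, ∃ v ∈ WJ cs J, ∃ v' ∈ WJ cs J', cs.length (v * w * v') = m :=
    ⟨_, 1, one_mem _, 1, one_mem _, rfl⟩
  obtain ⟨v, hv, v', hv', hm⟩ := Nat.find_spec hex
  refine ⟨v⁻¹, inv_mem hv, v'⁻¹, inv_mem hv', v * w * v', by group, ?_, ?_⟩
  · refine (isMinL_iff cs).2 fun i hi => ?_
    have h1 : cs.length (v * w * v') ≤ cs.length (cs.simple i * (v * w * v')) := by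
      rw [hm]
      refine Nat.find_min' hex ⟨cs.simple i * v, mul_mem (simple_mem_WJ cs hi) hv, v', hv', ?_⟩
      congr 1
      group
    exact lt_of_le_of_ne h1 (cs.length_simple_mul_ne _ i).symm
  · refine (isMinR_iff cs).2 fun i hi => ?_
    have h1 : cs.length (v * w * v') ≤ cs.length (v * w * v' * cs.simple i) := by
      rw [hm]
      refine Nat.find_min' hex ⟨v, hv, v' * cs.simple i, mul_mem hv' (simple_mem_WJ cs hi), ?_⟩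
      congr 1
      group
    exact lt_of_le_of_ne h1 (cs.length_mul_simple_ne _ i).symm

/-- a nontrivial element of `W_J` makes some simple root of `J` negative -/
theorem exists_neg_of_mem {J : Set I} {v : W} (hv : v ∈ WJ cs J) (h1 : v ≠ 1) :
    ∃ j ∈ J, rep cs h v (sr j) ≤ 0 := by
  by_contra hcon
  push Not at hcon
  apply h1
  refine eq_one_of_nonneg cs h v fun i => ?_
  by_cases hi : i ∈ J
  · exact ((isRoot_sr cs h i).act v).pos_or_neg.resolve_right (hcon i hi)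
  · refine nonneg_of_pos_apply ((isRoot_sr cs h i).act v) (k := i) ?_
    rw [rep_apply_of_mem cs h hv _ hi, Pi.single_eq_same]
    exact one_pos

variable (R : RGD cs h p T n X)

include R

theorem conj_T {w : W} {g : Y} (hg : Rp cs R.nsys w g) {t : Y} (ht : t ∈ T) : g⁻¹ * t * g ∈ T :=
  (Subgroup.mem_normalizer_iff''.1 hg.mem_normalizer t).1 ht

theorem conj_T' {w : W} {g : Y} (hg : Rp cs R.nsys w g) {t : Y} (ht : t ∈ T) : g * t * g⁻¹ ∈ T :=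
  (Subgroup.mem_normalizer_iff.1 hg.mem_normalizer t).1 ht

/-- **`P_J ∩ g P_J' g⁻¹` is generated by `T` and by `p`-elements**, `g` over a reduced element -/
theorem inf_le_of [Finite W] {J J' : Set I} {w : W} {g : Y} (hg : Rp cs R.nsys w g) (hw : Red cs J J' w)
    {Z : Subgroup Y} (hT : T ≤ Z)
    (hZ : ∀ x ∈ PJ cs h T X J, g⁻¹ * x * g ∈ PJ cs h T X J' → ∀ k, x ^ p ^ k = 1 → x ∈ Z) :
    ∀ x ∈ PJ cs h T X J, g⁻¹ * x * g ∈ PJ cs h T X J' → x ∈ Z := by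
  have hTJ : ∀ {K : Set I}, T ≤ PJ cs h T X K := fun {K} => le_trans RGD.T_le_B B_le_PJ
  have hQT : ∀ t ∈ T, t ∈ PJ cs h T X J ⊓ cj g (PJ cs h T X J') := fun t ht =>
    ⟨hTJ ht, mem_cj.2 (hTJ (conj_T R hg ht))⟩
  intro x hx hx'
  obtain ⟨v, hv, hc⟩ := (mem_PJ_iff_cell R).1 hx
  induction hn : cs.length v using Nat.strong_induction_on generalizing v x with
  | _ N ih =>
  by_cases hv1 : v = 1
  · subst hv1
    obtain ⟨t, ht, u, hu, e⟩ := R.mem_B.1 hc.mem_of_one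
    have h1 : u = t⁻¹ * x := by rw [e]; group
    obtain ⟨k, hk⟩ := (RGD.isPGroup_Upos R) ⟨u, hu⟩
    have h2 : u ∈ Z := by
      refine hZ u ?_ ?_ k (congrArg Subtype.val hk)
      · rw [h1]; exact mul_mem (inv_mem (hTJ ht)) hx
      · have : g⁻¹ * u * g = (g⁻¹ * t⁻¹ * g) * (g⁻¹ * x * g) := by rw [h1]; group
        rw [this]
        exact mul_mem (hTJ (conj_T R hg (inv_mem ht))) hx'
    rw [e]
    exact mul_mem (hT ht) h2
  obtain ⟨j, hj, hneg⟩ := exists_neg_of_mem (h := h) hv hv1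
  -- the conjugate of `v`
  obtain ⟨v', hv', hc'⟩ := (mem_PJ_iff_cell R).1 hx'
  have hvw : v * w = w * v' := by
    have h1 := Cell.mul_of_length R (hw.1 v hv) hc (cell_of_rp hg)
    have h2 := Cell.mul_of_length R (hw.2 v' hv') (cell_of_rp hg) hc'
    have e : g * (g⁻¹ * x * g) = x * g := by group
    rw [e] at h2
    exact Cell.unique R h1 h2
  -- the root `β`
  have hw1 : ∀ i ∈ J, 0 ≤ rep cs h w⁻¹ (sr i) := fun i hi => by
    refine nonneg_of_lt cs h w⁻¹ i ?_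
    have h1 := (isMinL_iff cs).1 hw.1 i hi
    rw [cs.length_inv, ← cs.length_inv (w⁻¹ * cs.simple i), mul_inv_rev, inv_inv, cs.inv_simple]
    exact h1
  set β := rep cs h w⁻¹ (sr j) with hβ
  have hβr : IsRoot cs h β := (isRoot_sr cs h j).act w⁻¹
  have hβJ : β ∈ RootsJ cs h J' := by
    rcases mem_PosJ_or_NotJ J' hβr (hw1 j hj) with h1 | h1
    · exact PosJ_subset J' h1
    · exfalso
      have h2 := (NotJ.act hv' h1).2.1
      have h3 : rep cs h v' β = rep cs h w⁻¹ (rep cs h v (sr j)) := by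
        rw [hβ, ← rep_mul_apply, ← rep_mul_apply]
        congr 1
        have : v' * w⁻¹ = w⁻¹ * v := by
          have e : v' = w⁻¹ * (v * w) := by rw [hvw]; group
          rw [e]; group
        rw [this]
      have h4 : 0 ≤ rep cs h w⁻¹ (-rep cs h v (sr j)) := by
        refine rep_nonneg_of_supp hw1 (neg_nonneg.2 hneg) fun k hk => ?_
        rw [Pi.neg_apply, rep_apply_of_mem cs h hv _ hk, neg_eq_zero]
        exact sr_ne (by rintro rfl; exact hk hj)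
      rw [map_neg, ← h3] at h4
      exact (hβr.act v').not_pos_neg h2 (neg_nonneg.1 h4)
  -- the root groups
  have hX : ∀ y, (y ∈ X (sr j) ∨ y ∈ X (-sr j)) → y ∈ PJ cs h T X J ⊓ cj g (PJ cs h T X J') ∧ y ∈ Z := by
    intro y hy
    have h1 : y ∈ PJ cs h T X J := by
      rcases hy with hy | hy
      · exact LJ_le_PJ (X_le_LJ (PosJ_subset J (sr_mem_PosJ hj)) hy)
      · exact LJ_le_PJ (X_le_LJ (RootsJ.neg (PosJ_subset J (sr_mem_PosJ hj))) hy)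
    have h2 : g⁻¹ * y * g ∈ PJ cs h T X J' := by
      rcases hy with hy | hy
      · exact LJ_le_PJ (X_le_LJ hβJ (R.conj_mem' hg (isRoot_sr cs h j) hy))
      · refine LJ_le_PJ (X_le_LJ (RootsJ.neg hβJ) ?_)
        have h3 := R.conj_mem' hg (isRoot_sr cs h j).neg hy
        rwa [map_neg] at h3
    have h4 : ∃ k, y ^ p ^ k = 1 := by
      rcases hy with hy | hy
      · obtain ⟨k, hk⟩ := (RGD.pgrp' R (isRoot_sr cs h j)) ⟨y, hy⟩
        exact ⟨k, congrArg Subtype.val hk⟩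
      · obtain ⟨k, hk⟩ := (RGD.pgrp' R (isRoot_sr cs h j).neg) ⟨y, hy⟩
        exact ⟨k, congrArg Subtype.val hk⟩
    obtain ⟨k, hk⟩ := h4
    exact ⟨⟨h1, mem_cj.2 h2⟩, hZ y h1 h2 k hk⟩
  have hnj : n j ∈ PJ cs h T X J ⊓ cj g (PJ cs h T X J') ∧ n j ∈ Z := by
    obtain ⟨⟨u, hu⟩, hu1⟩ := (Subgroup.ne_bot_iff_exists_ne_one.1 (X_ne_bot R (isRoot_sr cs h j).neg))
    obtain ⟨a, ha, t, ht, b, hb, e⟩ := R.rk1 j u hu fun h0 => hu1 (Subtype.ext h0)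
    have e2 : n j = t⁻¹ * a⁻¹ * u * b⁻¹ := by rw [e]; group
    rw [e2]
    exact ⟨mul_mem (mul_mem (mul_mem (inv_mem (hQT t ht)) (inv_mem (hX a (Or.inl ha)).1)) (hX u (Or.inr hu)).1)
        (inv_mem (hX b (Or.inl hb)).1),
      mul_mem (mul_mem (mul_mem (inv_mem (hT ht)) (inv_mem (hX a (Or.inl ha)).2)) (hX u (Or.inr hu)).2)
        (inv_mem (hX b (Or.inl hb)).2)⟩
  -- the step
  obtain ⟨b₁, hb₁, k, hk, b₂, hb₂, rfl⟩ := hc
  obtain ⟨v₂, hv₂, u₂, hu₂, t₂, ht₂, rfl⟩ := R.mem_B' j hb₂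
  have hlen : cs.length (v * cs.simple j) < cs.length v := (lt_iff cs h v j).2 hneg
  have hv₂' : n j * v₂ * (n j)⁻¹ ∈ RGD.B cs h T X := by
    have h1 : n j * v₂ * (n j)⁻¹ ∈ cj (n j) (RGD.Sup X (RGD.PosNe cs h j)) := conj_mem_cj.2 hv₂
    rw [RGD.cj_n_V R j] at h1
    have h2 : RGD.Sup X (RGD.PosNe cs h j) ≤ RGD.Sup X (RGD.Pos cs h) :=
      RGD.Sup_mono fun (x : I → ℤ) (hx : x ∈ RGD.PosNe cs h j) => (⟨hx.1, hx.2.1⟩ : x ∈ RGD.Pos cs h)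
    exact RGD.U_le_B (h2 h1)
  have hcell : Cell R.nsys cs h X (v * cs.simple j) (b₁ * k * (v₂ * u₂ * t₂) * (t₂⁻¹ * u₂⁻¹ * (n j)⁻¹)) := by
    refine ⟨b₁, hb₁, k * (n j)⁻¹, ?_, n j * v₂ * (n j)⁻¹, hv₂', by group⟩
    have h1 := hk.mul (rp_simple cs R.nsys j).inv
    rwa [cs.inv_simple] at h1
  have hz : t₂⁻¹ * u₂⁻¹ * (n j)⁻¹ ∈ PJ cs h T X J ⊓ cj g (PJ cs h T X J') :=
    mul_mem (mul_mem (inv_mem (hQT t₂ ht₂)) (inv_mem (hX u₂ (Or.inl hu₂)).1)) (inv_mem hnj.1)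
  have hxQ : b₁ * k * (v₂ * u₂ * t₂) ∈ PJ cs h T X J ⊓ cj g (PJ cs h T X J') := ⟨hx, mem_cj.2 hx'⟩
  have h5 := mul_mem hxQ hz
  have h6 := ih (cs.length (v * cs.simple j)) (by omega) _ h5.1 (mem_cj.1 h5.2) (v * cs.simple j)
    (mul_mem hv (simple_mem_WJ cs hj)) hcell rfl
  have e : b₁ * k * (v₂ * u₂ * t₂) = b₁ * k * (v₂ * u₂ * t₂) * (t₂⁻¹ * u₂⁻¹ * (n j)⁻¹) * (n j * u₂ * t₂) := by group
  rw [e]
  exact mul_mem h6 (mul_mem (mul_mem hnj.2 (hX u₂ (Or.inl hu₂)).2) (hT ht₂))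

omit R in
/-- `ξ` and the conjugate of `ξ'` by `g` agree on `T` -/
def TAg {J J' : Set I} (ξ : ↥(PJ cs h T X J) →* ℂˣ) (ξ' : ↥(PJ cs h T X J') →* ℂˣ) (g : Y) : Prop :=
  ∀ t ∈ T, ∀ (h1 : t ∈ PJ cs h T X J) (h2 : g⁻¹ * t * g ∈ PJ cs h T X J'), ξ ⟨t, h1⟩ = ξ' ⟨g⁻¹ * t * g, h2⟩

theorem ag_of_red [Finite W] {J J' : Set I} {w : W} {g : Y} (hg : Rp cs R.nsys w g) (hw : Red cs J J' w)
    {ξ : ↥(PJ cs h T X J) →* ℂˣ} {ξ' : ↥(PJ cs h T X J') →* ℂˣ} (hξ : ∀ x k, x ^ p ^ k = 1 → ξ x = 1)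
    (hξ' : ∀ x k, x ^ p ^ k = 1 → ξ' x = 1) (hT : TAg ξ ξ' g) : Ag (PJ cs h T X J) (PJ cs h T X J') ξ ξ' g := by
  have hTJ : ∀ {K : Set I}, T ≤ PJ cs h T X K := fun {K} => le_trans RGD.T_le_B B_le_PJ
  let Z : Subgroup Y :=
    { carrier := {x | ∃ (h1 : x ∈ PJ cs h T X J) (h2 : g⁻¹ * x * g ∈ PJ cs h T X J'),
        ξ ⟨x, h1⟩ = ξ' ⟨g⁻¹ * x * g, h2⟩}
      one_mem' := ⟨one_mem _, by rw [mul_one, inv_mul_cancel]; exact one_mem _, by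
        have e1 : (⟨1, one_mem _⟩ : ↥(PJ cs h T X J)) = 1 := rfl
        have e2 : ∀ hh, (⟨g⁻¹ * 1 * g, hh⟩ : ↥(PJ cs h T X J')) = 1 := fun hh => Subtype.ext (by
          change g⁻¹ * 1 * g = 1
          group)
        rw [e1, e2, map_one, map_one]⟩
      mul_mem' := by
        rintro a b ⟨ha1, ha2, ha⟩ ⟨hb1, hb2, hb⟩
        have e : g⁻¹ * (a * b) * g = (g⁻¹ * a * g) * (g⁻¹ * b * g) := by group
        refine ⟨mul_mem ha1 hb1, by rw [e]; exact mul_mem ha2 hb2, ?_⟩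
        have e1 : (⟨a * b, mul_mem ha1 hb1⟩ : ↥(PJ cs h T X J)) = ⟨a, ha1⟩ * ⟨b, hb1⟩ := rfl
        have e2 : ∀ hh, (⟨g⁻¹ * (a * b) * g, hh⟩ : ↥(PJ cs h T X J')) = ⟨g⁻¹ * a * g, ha2⟩ * ⟨g⁻¹ * b * g, hb2⟩ :=
          fun hh => Subtype.ext e
        rw [e1, e2, map_mul, map_mul, ha, hb]
      inv_mem' := by
        rintro a ⟨ha1, ha2, ha⟩
        have e : g⁻¹ * a⁻¹ * g = (g⁻¹ * a * g)⁻¹ := by group
        refine ⟨inv_mem ha1, by rw [e]; exact inv_mem ha2, ?_⟩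
        have e1 : (⟨a⁻¹, inv_mem ha1⟩ : ↥(PJ cs h T X J)) = ⟨a, ha1⟩⁻¹ := rfl
        have e2 : ∀ hh, (⟨g⁻¹ * a⁻¹ * g, hh⟩ : ↥(PJ cs h T X J')) = ⟨g⁻¹ * a * g, ha2⟩⁻¹ :=
          fun hh => Subtype.ext e
        rw [e1, e2, map_inv, map_inv, ha] }
  have hTZ : T ≤ Z := fun t ht => ⟨hTJ ht, hTJ (conj_T R hg ht), hT t ht _ _⟩
  have hZ := inf_le_of R hg hw hTZ fun x hx hx' k hk => by
    refine ⟨hx, hx', ?_⟩
    rw [hξ ⟨x, hx⟩ k (Subtype.ext hk), hξ' ⟨g⁻¹ * x * g, hx'⟩ k (Subtype.ext ?_)]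
    change (g⁻¹ * x * g) ^ p ^ k = 1
    have e : g⁻¹ * x * g = g⁻¹ * x * g⁻¹⁻¹ := by rw [inv_inv]
    rw [e, conj_pow, hk, mul_one, inv_inv, inv_mul_cancel]
  intro t ht
  obtain ⟨h1, h2, h3⟩ := hZ t t.2 ht
  exact h3

/-- agreement on `P_J ∩ g P_J' g⁻¹` can be tested on `T` -/
theorem ag_iff [Finite W] {J J' : Set I} {w : W} {g : Y} (hg : Rp cs R.nsys w g)
    {ξ : ↥(PJ cs h T X J) →* ℂˣ} {ξ' : ↥(PJ cs h T X J') →* ℂˣ} (hξ : ∀ x k, x ^ p ^ k = 1 → ξ x = 1)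
    (hξ' : ∀ x k, x ^ p ^ k = 1 → ξ' x = 1) : Ag (PJ cs h T X J) (PJ cs h T X J') ξ ξ' g ↔ TAg ξ ξ' g := by
  have hTJ : ∀ {K : Set I}, T ≤ PJ cs h T X K := fun {K} => le_trans RGD.T_le_B B_le_PJ
  constructor
  · intro hA t ht h1 h2
    exact hA ⟨t, h1⟩ h2
  · intro hT
    obtain ⟨v, hv, v', hv', u, e, hu⟩ := exists_red (cs := cs) J J' w
    obtain ⟨a, ha⟩ := exists_rp cs R.nsys v
    obtain ⟨b, hb⟩ := exists_rp cs R.nsys v'
    have hg0 : Rp cs R.nsys u (a⁻¹ * g * b⁻¹) := by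
      have h1 := (ha.inv.mul hg).mul hb.inv
      have h2 : v⁻¹ * w * v'⁻¹ = u := by rw [e]; group
      rwa [h2] at h1
    have haP : a ∈ PJ cs h T X J := LJ_le_PJ (rp_mem_LJ R hv ha)
    have hbP : b ∈ PJ cs h T X J' := LJ_le_PJ (rp_mem_LJ R hv' hb)
    have h0 : TAg ξ ξ' (a⁻¹ * g * b⁻¹) := by
      intro t ht h1 h2
      have h3 : a * t * a⁻¹ ∈ T := conj_T' R ha ht
      have h4 : g⁻¹ * (a * t * a⁻¹) * g ∈ T := conj_T R hg h3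
      have h5 := hT _ h3 (hTJ h3) (hTJ h4)
      have e1 : (⟨a * t * a⁻¹, hTJ h3⟩ : ↥(PJ cs h T X J)) = ⟨a, haP⟩ * ⟨t, h1⟩ * ⟨a, haP⟩⁻¹ := rfl
      have e2 : (⟨(a⁻¹ * g * b⁻¹)⁻¹ * t * (a⁻¹ * g * b⁻¹), h2⟩ : ↥(PJ cs h T X J')) =
          ⟨b, hbP⟩ * ⟨g⁻¹ * (a * t * a⁻¹) * g, hTJ h4⟩ * ⟨b, hbP⟩⁻¹ := Subtype.ext (by
        change (a⁻¹ * g * b⁻¹)⁻¹ * t * (a⁻¹ * g * b⁻¹) = b * (g⁻¹ * (a * t * a⁻¹) * g) * b⁻¹
        group)
      rw [e2, map_mul, map_mul, map_inv, mul_comm (ξ' ⟨b, hbP⟩), mul_inv_cancel_right, ← h5, e1, map_mul, map_mul,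
        map_inv, mul_comm (ξ ⟨a, haP⟩), mul_inv_cancel_right]
    have h6 := (ag_of_red R hg0 hu hξ hξ' h0).mul_mem haP hbP
    have e3 : a * (a⁻¹ * g * b⁻¹) * b = g := by group
    rwa [e3] at h6

/-- elements of `G` are `a g b`, `a ∈ P_J`, `b ∈ P_J'`, `g` over any element -/
theorem exists_rp_dc [Finite W] (hG : GG cs h T X = ⊤) (J J' : Set I) (x : Y) :
    ∃ a ∈ PJ cs h T X J, ∃ b ∈ PJ cs h T X J', ∃ w g, Rp cs R.nsys w g ∧ x = a * g * b := by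
  obtain ⟨w, b₁, hb₁, k, hk, b₂, hb₂, e⟩ := (mem_GG R).1 (show x ∈ GG cs h T X by rw [hG]; exact Subgroup.mem_top x)
  exact ⟨b₁, B_le_PJ hb₁, b₂, B_le_PJ hb₂, w, k, hk, e⟩

theorem TAg.of_rp {J J' : Set I} {ξ : ↥(PJ cs h T X J) →* ℂˣ} {ξ' : ↥(PJ cs h T X J') →* ℂˣ} {w : W} {g g' : Y}
    (hg : Rp cs R.nsys w g) (hg' : Rp cs R.nsys w g') (h0 : TAg ξ ξ' g) : TAg ξ ξ' g' := by
  have hTJ : ∀ {K : Set I}, T ≤ PJ cs h T X K := fun {K} => le_trans RGD.T_le_B B_le_PJ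
  intro t ht h1 h2
  have hs := hg.unique hg'
  set s := g⁻¹ * g' with hs'
  have hgt := conj_T R hg ht
  have e : (⟨g'⁻¹ * t * g', h2⟩ : ↥(PJ cs h T X J')) = ⟨s, hTJ hs⟩⁻¹ * ⟨g⁻¹ * t * g, hTJ hgt⟩ * ⟨s, hTJ hs⟩ :=
    Subtype.ext (by
      change g'⁻¹ * t * g' = (g⁻¹ * g')⁻¹ * (g⁻¹ * t * g) * (g⁻¹ * g')
      group)
  rw [e, map_mul, map_mul, map_inv, mul_comm, mul_inv_cancel_left]
  exact h0 t ht h1 (hTJ hgt)

/-- two elements of `N` in the same double coset -/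
theorem dc_of_dc [Finite W] {J J' : Set I} {w w' : W} {g g' : Y} (hg : Rp cs R.nsys w g) (hg' : Rp cs R.nsys w' g')
    {a b : Y} (ha : a ∈ PJ cs h T X J) (hb : b ∈ PJ cs h T X J') (e : g' = a * g * b) :
    ∃ v ∈ WJ cs J, ∃ v' ∈ WJ cs J', w' = v * w * v' := by
  -- reduce to `w` and `w'` reduced
  obtain ⟨v, hv, v', hv', u, ew, hu⟩ := exists_red (cs := cs) J J' w
  obtain ⟨x, hx, x', hx', y, ew', hy⟩ := exists_red (cs := cs) J J' w'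
  obtain ⟨nv, hnv⟩ := exists_rp cs R.nsys v
  obtain ⟨nv', hnv'⟩ := exists_rp cs R.nsys v'
  obtain ⟨nx, hnx⟩ := exists_rp cs R.nsys x
  obtain ⟨nx', hnx'⟩ := exists_rp cs R.nsys x'
  have hgu : Rp cs R.nsys u (nv⁻¹ * g * nv'⁻¹) := by
    have h1 := (hnv.inv.mul hg).mul hnv'.inv
    have h2 : v⁻¹ * w * v'⁻¹ = u := by rw [ew]; group
    rwa [h2] at h1
  have hgy : Rp cs R.nsys y (nx⁻¹ * g' * nx'⁻¹) := by
    have h1 := (hnx.inv.mul hg').mul hnx'.inv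
    have h2 : x⁻¹ * w' * x'⁻¹ = y := by rw [ew']; group
    rwa [h2] at h1
  have m1 := LJ_le_PJ (rp_mem_LJ R hv hnv)
  have m2 := LJ_le_PJ (rp_mem_LJ R hv' hnv')
  have m3 := LJ_le_PJ (rp_mem_LJ R hx hnx)
  have m4 := LJ_le_PJ (rp_mem_LJ R hx' hnx')
  have key : ∃ c ∈ PJ cs h T X J, ∃ d ∈ PJ cs h T X J', (nx⁻¹ * g' * nx'⁻¹) * d = c * (nv⁻¹ * g * nv'⁻¹) := by
    refine ⟨nx⁻¹ * a * nv, mul_mem (mul_mem (inv_mem m3) ha) m1, nx' * b⁻¹ * nv'⁻¹,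
      mul_mem (mul_mem m4 (inv_mem hb)) (inv_mem m2), ?_⟩
    rw [e]
    group
  obtain ⟨c, hc, d, hd, ecd⟩ := key
  obtain ⟨z, hz, hcz⟩ := (mem_PJ_iff_cell R).1 hc
  obtain ⟨z', hz', hdz⟩ := (mem_PJ_iff_cell R).1 hd
  have h1 := Cell.mul_of_length R (hy.2 z' hz') (cell_of_rp hgy) hdz
  have h2 := Cell.mul_of_length R (hu.1 z hz) hcz (cell_of_rp hgu)
  rw [ecd] at h1
  have h3 := Cell.unique R h1 h2
  refine ⟨x * z * v⁻¹, mul_mem (mul_mem hx hz) (inv_mem hv), v'⁻¹ * z'⁻¹ * x',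
    mul_mem (mul_mem (inv_mem hv') (inv_mem hz')) hx', ?_⟩
  have h4 : y = z * u * z'⁻¹ := by rw [← h3]; group
  rw [ew', h4, ew]
  group

/-- **Mackey's formula**: `⟨Ind ξ, Ind ξ'⟩` is the number of double cosets `W_J w W_J'` on which `ξ` and `ξ'` agree -/
theorem inner_rgd [Finite W] [Fintype Y] (hG : GG cs h T X = ⊤) {J J' : Set I}
    {ξ : ↥(PJ cs h T X J) →* ℂˣ} {ξ' : ↥(PJ cs h T X J') →* ℂˣ} (hξ : ∀ x k, x ^ p ^ k = 1 → ξ x = 1)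
    (hξ' : ∀ x k, x ^ p ^ k = 1 → ξ' x = 1) {ι : Type*} [Fintype ι] (w : ι → W)
    (hm : ∀ i, ∃ g, Rp cs R.nsys (w i) g ∧ TAg ξ ξ' g)
    (hd : ∀ i j, (∃ v ∈ WJ cs J, ∃ v' ∈ WJ cs J', w j = v * w i * v') → i = j)
    (hu : ∀ v g, Rp cs R.nsys v g → TAg ξ ξ' g → ∃ i, ∃ u ∈ WJ cs J, ∃ u' ∈ WJ cs J', v = u * w i * u') :
    classInner (indFun (PJ cs h T X J) fun t => (ξ t : ℂ)) (indFun (PJ cs h T X J') fun t => (ξ' t : ℂ)) =
      (Fintype.card ι : ℂ) := by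
  choose g hg hgT using hm
  refine inner_card (PJ cs h T X J) (PJ cs h T X J') ξ ξ' g (fun i => (ag_iff R (hg i) hξ hξ').2 (hgT i)) ?_ ?_
  · rintro i j hij ⟨a, ha, b, hb, e⟩
    exact hij (hd i j (dc_of_dc R (hg i) (hg j) ha hb e))
  · intro y hy
    obtain ⟨a, ha, b, hb, v, k, hk, e⟩ := exists_rp_dc R hG J J' y
    have hky : Ag (PJ cs h T X J) (PJ cs h T X J') ξ ξ' k := by
      have h1 := hy.mul_mem (inv_mem ha) (inv_mem hb)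
      have e2 : a⁻¹ * y * b⁻¹ = k := by rw [e]; group
      rwa [e2] at h1
    obtain ⟨i, u, hu', u', hu'', e3⟩ := hu v k hk ((ag_iff R hk hξ hξ').1 hky)
    obtain ⟨nu, hnu⟩ := exists_rp cs R.nsys u
    obtain ⟨nu', hnu'⟩ := exists_rp cs R.nsys u'
    have h2 : Rp cs R.nsys v (nu * g i * nu') := by
      rw [e3]
      exact (hnu.mul (hg i)).mul hnu'
    have h3 := h2.unique hk
    refine ⟨i, a * nu, mul_mem ha (LJ_le_PJ (rp_mem_LJ R hu' hnu)), nu' * ((nu * g i * nu')⁻¹ * k) * b,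
      mul_mem (mul_mem (LJ_le_PJ (rp_mem_LJ R hu'' hnu')) (B_le_PJ (RGD.T_le_B h3))) hb, ?_⟩
    rw [e]
    group

end Cfsg.Agent.H287.OC
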