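import Cfsg.Agent.H993.OC.Row
import Cfsg.Agent.H287.OC.Rgd
import Cfsg.Agent.KFacts.RgdTau
import Cfsg.Agent.KFacts.RgdChevCoord

/-!
# S4891 (R12), `D₄`: notation (helper287)
-/

set_option autoImplicit false

open Cfsg Cfsg.Lie

namespace Cfsg.Agent.H287.OC

open CoxeterSystem Cfsg.Agent.ChevalleyStructure.CoxeterGeom Cfsg.Agent.Tits.Roots Cfsg.Agent.Tits.Core
  Cfsg.Agent.Nodes.Reps Cfsg.Agent.Nodes.BNOf Cfsg.Agent.Nodes.StabComb Cfsg.Agent.Nodes.Bruhat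
  Cfsg.Agent.Nodes.LeviDec Cfsg.Agent.Nodes.RGDChev Cfsg.Agent.ChevalleyStructure.CoxeterGeomTypes
  Cfsg.Agent.KFacts.RgdAut Cfsg.Agent.KFacts.RgdDiag Cfsg.Agent.KFacts.RgdChevCoord

universe u

theorem hp4 : IsType chevD4 4 coxeterD4 := by simp [IsType, typeList]

abbrev cs4 : CoxeterSystem coxeterD4 coxeterD4.Group := coxeterD4.toCoxeterSystem

variable (K : Type u) [Field K] [Finite K]

/-- the root groups -/
abbrev X4 : (Fin 4 → ℤ) → Subgroup ↥(chevD4.group K) := XX chevD4 4 K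

abbrev T4 : Subgroup ↥(chevD4.group K) := TT chevD4 K

/-- the unipotent group -/
abbrev U4 : Subgroup ↥(chevD4.group K) := RGD.Sup (X4 K) (RGD.Pos cs4 hp4.isCartan)

theorem R4 (p : ℕ) [Fact p.Prime] [CharP K p] : RGD cs4 hp4.isCartan p (T4 K) (nc hp4 K) (X4 K) := rgd hp4 cs4 p

/-- the diagram automorphism of order three: `0 -> 2 -> 3 -> 0`, the central node is `1` -/
def rot : Equiv.Perm (Fin 4) := Equiv.swap 0 3 * Equiv.swap 0 2

/-- the highest root -/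
def th : Fin 4 → ℤ := ![1, 2, 1, 1]


end Cfsg.Agent.H287.OC
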